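import Cfsg.Agent.CharDeep.OrderP.Exc
import Cfsg.Agent.S1230
import Cfsg.Agent.Lib.SmallGroups.SelfCent.PSLFinish

/-!
# Recognition of `SL₂(2^a)` from a character of degree `p - 1` or `p - 2`
-/

set_option autoImplicit false

namespace Cfsg.Agent.CharDeep.OrderP

open SmallGroups.SelfCent

theorem center_sl_two_eq_bot {F : Type*} [Field F] [CharP F 2] :
    Subgroup.center (Matrix.SpecialLinearGroup (Fin 2) F) = ⊥ := by
  rw [eq_bot_iff]
  intro A hA
  obtain ⟨r, hr, hrA⟩ := Matrix.SpecialLinearGroup.mem_center_iff.mp hA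
  rw [Fintype.card_fin] at hr
  have h2 : (2 : F) = 0 := CharTwo.two_eq_zero
  have hr1 : r = 1 := by
    have h : (r - 1) ^ 2 = 0 := by linear_combination hr + (1 - r) * h2
    exact sub_eq_zero.mp ((pow_eq_zero_iff two_ne_zero).mp h)
  rw [Subgroup.mem_bot]
  apply Subtype.ext
  rw [← hrA, hr1, map_one]
  rfl

theorem charP_two_of_card {F : Type*} [Field F] [Fintype F] {a : ℕ} (h : Fintype.card F = 2 ^ a) :
    CharP F 2 := by
  obtain ⟨q, hq⟩ := CharP.exists F
  obtain ⟨n, hqp, hn⟩ := FiniteField.card F q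
  have hd : q ∣ 2 ^ a := h ▸ hn ▸ dvd_pow_self q n.ne_zero
  have hq2 : q = 2 := (Nat.prime_dvd_prime_iff_eq hqp Nat.prime_two).mp (hqp.dvd_of_dvd_pow hd)
  exact hq2 ▸ hq

theorem nonempty_psl_equiv_sl {F : Type*} [Field F] [Fintype F] {a : ℕ}
    (h : Fintype.card F = 2 ^ a) :
    Nonempty (Matrix.ProjectiveSpecialLinearGroup (Fin 2) F ≃*
      Matrix.SpecialLinearGroup (Fin 2) F) := by
  have := charP_two_of_card h
  exact ⟨(QuotientGroup.quotientMulEquivOfEq center_sl_two_eq_bot).trans QuotientGroup.quotientBot⟩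

/-- A non-abelian simple group with a self-centralising Sylow subgroup of order `p`, normaliser
of order `2 p`, and an irreducible character of degree `p - 1` or `p - 2`. -/
theorem recognition {G : Type*} [Group G] [Finite G] [IsSimpleGroup G] (hG : ¬ IsMulCommutative G)
    {p : ℕ} [hp : Fact p.Prime] (hp5 : 5 ≤ p) (P : Sylow p G)
    (hP : Nat.card (P : Subgroup G) = p)
    (hC : Subgroup.centralizer ((P : Subgroup G) : Set G) = P)
    (hN : Nat.card (Subgroup.normalizer ((P : Subgroup G) : Set G)) = 2 * p)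
    (hdeg : ∃ χ : Cfsg.IrrCharacter G,
      (χ : G → ℂ) 1 = ((p - 1 : ℕ) : ℂ) ∨ (χ : G → ℂ) 1 = ((p - 2 : ℕ) : ℂ)) :
    Nat.card G = p * ((p - 1) * (p - 2)) ∧
      (∀ w : G, orderOf w = 2 → Nat.card (Subgroup.centralizer ({w} : Set G)) = p - 1 ∧
        (∀ c ∈ Subgroup.centralizer ({w} : Set G), c ^ 2 = 1) ∧
        ∀ v : G, orderOf v = 2 → IsConj w v) ∧ ∃ (a : ℕ) (F : Type) (_ : Field F) (_ : Fintype F),
      2 ≤ a ∧ p = 2 ^ a + 1 ∧ Fintype.card F = 2 ^ a ∧
      Nonempty (G ≃* Matrix.SpecialLinearGroup (Fin 2) F) := by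
  classical
  have := Fintype.ofFinite G
  obtain ⟨F, hF⟩ := exists_facts hG hp5 P hP hC hN (by
    obtain ⟨χ, h⟩ := hdeg
    refine ⟨χ, ?_⟩
    rw [(Setup.deg_spec χ).2.2] at h
    exact_mod_cast h)
  refine ⟨hF.card, ?_⟩
  have hp2 : p ≠ 2 := by omega
  have hodd : p % 2 = 1 := Nat.odd_iff.mp (hp.out.odd_of_ne_two hp2)
  have hpz : (5 : ℤ) ≤ p := by exact_mod_cast hp5
  let S : Finset G := Finset.univ.filter fun g => orderOf g = p
  let Z : Finset G := Finset.univ.filter fun g => g ≠ 1 ∧ F g = 0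
  have hScard : 2 * S.card = (p - 1) * ((p - 1) * (p - 2)) := by
    have h := hF.card_singular
    rw [Nat.card_eq_fintype_card, Fintype.card_subtype, hF.card] at h
    apply Nat.eq_of_mul_eq_mul_left hp.out.pos
    linear_combination h
  have hsum := hF.sum_zero
  -- the zeros
  have hZcard : Z.card = p * (p - 2) := by
    have h1 : ∀ g, F g = (if g = 1 then (p : ℤ) - 2 else 0) + (1 : ℤ) -
        2 * (if g ∈ S then 1 else 0) - (if g ∈ Z then 1 else 0) := fun g => by
      by_cases h1 : g = 1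
      · subst h1
        simp [S, Z, hF.one, hp.out.ne_one.symm]
        ring
      · by_cases h2 : orderOf g = p
        · simp [S, Z, h1, h2, hF.singular g h2]
        · rcases hF.regular g h2 h1 with h | h <;> simp [S, Z, h1, h2, h]
    rw [Finset.sum_congr rfl fun g _ => h1 g] at hsum
    simp only [Finset.sum_sub_distrib, Finset.sum_add_distrib, Finset.sum_ite_eq',
      Finset.mem_univ, if_true, Finset.sum_const, Finset.card_univ, ← Nat.card_eq_fintype_card,
      ← Finset.mul_sum, Finset.sum_boole, Finset.filter_mem_eq_inter, Finset.univ_inter,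
      nsmul_eq_mul, mul_one] at hsum
    rw [hF.card] at hsum
    have hS' : (2 : ℤ) * (S.card : ℤ) = ((p : ℤ) - 1) * (((p : ℤ) - 1) * ((p : ℤ) - 2)) := by
      have h : ((2 * S.card : ℕ) : ℤ) = (((p - 1) * ((p - 1) * (p - 2)) : ℕ) : ℤ) := by rw [hScard]
      push_cast [Nat.cast_sub (show 1 ≤ p by omega), Nat.cast_sub (show 2 ≤ p by omega)] at h
      exact h
    have : (Z.card : ℤ) = (p : ℤ) * ((p : ℤ) - 2) := by
      push_cast [Nat.cast_sub (show 1 ≤ p by omega), Nat.cast_sub (show 2 ≤ p by omega)] at hsum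
      linear_combination -hsum - hS'
    have h' : ((Z.card : ℕ) : ℤ) = ((p * (p - 2) : ℕ) : ℤ) := by
      push_cast [Nat.cast_sub (show 2 ≤ p by omega)]; exact this
    exact_mod_cast h'
  -- an involution
  have heven : 2 ∣ Nat.card G := by
    rw [hF.card]; exact Dvd.dvd.mul_left (Dvd.dvd.mul_right (by omega) _) _
  obtain ⟨w, hwo⟩ := exists_prime_orderOf_dvd_card' 2 heven
  have hw1 : w ≠ 1 := fun h => by rw [h, orderOf_one] at hwo; omega
  have hw2 : w ^ 2 = 1 := hwo ▸ pow_orderOf_eq_one w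
  have hclass : ∀ y, y ∈ Z → IsConj w y := by
    let K : Finset G := Finset.univ.filter fun y => IsConj w y
    have hKZ : K ⊆ Z := fun y hy => by
      obtain ⟨c, rfl⟩ := isConj_iff.mp (Finset.mem_filter.mp hy).2
      have h1 : c * w * c⁻¹ ≠ 1 := fun h => hw1 (conj_eq_one_iff.mp h)
      exact Finset.mem_filter.mpr ⟨Finset.mem_univ _, h1,
        hF.even _ (by rw [conj_pow, hw2]; group) h1⟩
    have hKcard : K.card = p * (p - 2) := by
      have h := SmallGroups.card_conj_mul_centralizer w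
      rw [hF.cent w hw2 hw1, hF.card, Nat.card_eq_fintype_card, Fintype.card_subtype] at h
      apply Nat.eq_of_mul_eq_mul_right (show 0 < p - 1 by omega)
      rw [show K.card * (p - 1) = p * ((p - 1) * (p - 2)) from h]; ring
    have hKeq := Finset.eq_of_subset_of_card_le hKZ (by rw [hZcard, hKcard])
    intro y hy
    rw [← hKeq] at hy
    exact (Finset.mem_filter.mp hy).2
  have hexp : ∀ t : G, orderOf t = 2 → ∀ c ∈ Subgroup.centralizer ({t} : Set G), c ^ 2 = 1 := by
    intro t ht c hc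
    by_cases hc1 : c = 1
    · rw [hc1, one_pow]
    have ht1 : t ≠ 1 := fun h => by rw [h, orderOf_one] at ht; omega
    have htC := hF.cent t (ht ▸ pow_orderOf_eq_one t) ht1
    obtain ⟨i, hi⟩ := exists_sum_eq_card_mul (H := Subgroup.centralizer ({t} : Set G))
      (CharCore.isCharacter_restrict hF.char (Subgroup.centralizer ({t} : Set G)))
    have hi' : ∑ q : Subgroup.centralizer ({t} : Set G), F q =
        ((p : ℤ) - 1) * i := by
      have h : ∑ q : Subgroup.centralizer ({t} : Set G), F q =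
          (Nat.card (Subgroup.centralizer ({t} : Set G)) : ℤ) * i := by exact_mod_cast hi
      rw [h, htC, Nat.cast_sub (by omega)]
      simp
    have hreg : ∀ q : Subgroup.centralizer ({t} : Set G), q ≠ 1 → F q = 0 ∨ F q = 1 := fun q hq => by
      refine hF.regular _ (fun h => ?_) (fun h => hq (Subtype.ext h))
      have h1 := Subgroup.orderOf_dvd_natCard _ q.2
      rw [h, htC] at h1
      have := Nat.le_of_dvd (by omega) h1
      omega
    rw [← Finset.add_sum_erase _ _ (Finset.mem_univ (1 : Subgroup.centralizer ({t} : Set G))),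
      OneMemClass.coe_one, hF.one] at hi'
    let t' : Subgroup.centralizer ({t} : Set G) :=
      ⟨t, Subgroup.mem_centralizer_singleton_iff.mpr rfl⟩
    have htne : t' ≠ 1 := fun h => ht1 (congrArg Subtype.val h)
    set E := Finset.univ.erase (1 : Subgroup.centralizer ({t} : Set G))
    have hlo : 0 ≤ ∑ q ∈ E, F q := Finset.sum_nonneg fun q hq => by
      rcases hreg q (Finset.ne_of_mem_erase hq) with h | h <;> omega
    have hhi : ∑ q ∈ E, F q < (p : ℤ) - 1 := by
      have h1 := Finset.sum_le_card_nsmul E (fun q => F q) 1 (fun q hq => by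
        rcases hreg q (Finset.ne_of_mem_erase hq) with h | h <;> omega)
      rw [Finset.card_erase_of_mem (Finset.mem_univ _), Finset.card_univ,
        ← Nat.card_eq_fintype_card, htC, nsmul_eq_mul, mul_one] at h1
      omega
    have hz : ∑ q ∈ E, F q = 0 := by
      have h1 : ∑ q ∈ E, F q = ((p : ℤ) - 1) * ((i : ℤ) - 1) := by linear_combination hi'
      rw [h1] at hlo hhi
      have hi0 : 0 ≤ (i : ℤ) - 1 := nonneg_of_mul_nonneg_right hlo (by omega)
      have hi1 : (i : ℤ) - 1 < 1 := lt_of_mul_lt_mul_left (by rwa [mul_one]) (by omega : (0 : ℤ) ≤ (p : ℤ) - 1)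
      rw [h1, show (i : ℤ) - 1 = 0 by omega, mul_zero]
    let c' : Subgroup.centralizer ({t} : Set G) := ⟨c, hc⟩
    have hFc : F c = 0 := (Finset.sum_eq_zero_iff_of_nonneg (fun q hq => by
        rcases hreg q (Finset.ne_of_mem_erase hq) with h | h <;> omega)).mp hz c'
      (Finset.mem_erase.mpr ⟨fun h => hc1 (congrArg Subtype.val h), Finset.mem_univ _⟩)
    obtain ⟨d, rfl⟩ := isConj_iff.mp
      (hclass c (Finset.mem_filter.mpr ⟨Finset.mem_univ _, hc1, hFc⟩))
    rw [conj_pow, hw2]; group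
  have hmem : ∀ u : G, orderOf u = 2 → IsConj w u := fun u hu => by
    have hu1 : u ≠ 1 := fun h => by rw [h, orderOf_one] at hu; omega
    exact hclass u (Finset.mem_filter.mpr
      ⟨Finset.mem_univ _, hu1, hF.even u (hu ▸ pow_orderOf_eq_one u) hu1⟩)
  -- the centraliser is a `2`-group
  have hC2 : IsPGroup 2 (Subgroup.centralizer ({w} : Set G)) := fun c =>
    ⟨1, Subtype.ext (by simpa using hexp w hwo c c.2)⟩
  obtain ⟨a, ha⟩ := IsPGroup.iff_card.mp hC2
  rw [hF.cent w hw2 hw1] at ha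
  have hm : ¬ 2 ∣ p * (p - 2) := fun h => by
    rcases Nat.prime_two.dvd_mul.mp h with h' | h' <;> omega
  obtain ⟨T⟩ := (inferInstance : Nonempty (Sylow 2 G))
  have hT : Nat.card (T : Subgroup G) = p - 1 := by
    rw [SmallGroups.card_sylow_eq (a := a) (m := p * (p - 2)) (by rw [hF.card, ← ha]; ring) hm T, ← ha]
  have ha2 : 2 ≤ a := by
    by_contra h
    have : 2 ^ a ≤ 2 ^ 1 := Nat.pow_le_pow_right (by norm_num) (by omega)
    omega
  have hnc : ¬ IsCyclic (T : Subgroup G) := by
    intro h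
    obtain ⟨g, hg⟩ := IsCyclic.exists_ofOrder_eq_natCard (α := ↥(T : Subgroup G))
    rw [hT, ha] at hg
    have hgo : orderOf (g : G) = 2 ^ a := by rw [Subgroup.orderOf_coe, hg]
    set v := (g : G) ^ (2 ^ (a - 1)) with hv
    have hvo : orderOf v = 2 := by
      have hkk : 2 ^ a = 2 ^ (a - 1) * 2 := by rw [← pow_succ]; congr 1; omega
      rw [hv, orderOf_pow' _ (pow_ne_zero _ two_ne_zero), hgo, hkk, Nat.gcd_comm,
        Nat.gcd_eq_left (Dvd.intro 2 rfl), Nat.mul_div_cancel_left _ (Nat.two_pow_pos _)]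
    have h2 := orderOf_dvd_of_pow_eq_one (hexp v hvo g (by
      rw [Subgroup.mem_centralizer_singleton_iff]
      exact ((Commute.refl (g : G)).pow_right _).eq))
    rw [hgo] at h2
    have h4 : 2 ^ 2 ≤ 2 ^ a := Nat.pow_le_pow_right (by norm_num) ha2
    have := Nat.le_of_dvd (by norm_num) h2
    omega
  have hnn : ¬ (T : Subgroup G).Normal := by
    intro hn
    rcases hn.eq_bot_or_eq_top with h | h
    · rw [h, Subgroup.card_bot] at hT
      omega
    · rw [h, Subgroup.card_top, hF.card] at hT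
      have h1 : 2 * (p - 1) ≤ p * ((p - 1) * (p - 2)) := by
        calc 2 * (p - 1) = 2 * ((p - 1) * 1) := by rw [mul_one]
          _ ≤ _ := Nat.mul_le_mul (by omega) (Nat.mul_le_mul_left _ (by omega))
      omega
  obtain ⟨K, i1, i2, hK, ⟨e⟩⟩ := Cfsg.Agent.S1230.result T hnc hnn (fun t ht => by
    refine ⟨isMulCommutative_iff.mpr fun x y => ?_, hexp t ht⟩
    have hi : ∀ c : Subgroup.centralizer ({t} : Set G), c⁻¹ = c := fun c => by
      apply inv_eq_of_mul_eq_one_right
      apply Subtype.ext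
      have := hexp t ht c c.2
      simpa [sq] using this
    rw [← hi (x * y), mul_inv_rev, hi, hi])
  rw [hT, ha] at hK
  obtain ⟨e'⟩ := nonempty_psl_equiv_sl hK
  exact ⟨fun u hu => ⟨hF.cent u (hu ▸ pow_orderOf_eq_one u)
    (fun h => by rw [h, orderOf_one] at hu; omega), hexp u hu, fun v hv => (hmem u hu).symm.trans (hmem v hv)⟩,
    a, K, i1, i2, ha2, by omega, hK, ⟨e.trans e'⟩⟩

end Cfsg.Agent.CharDeep.OrderP
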