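import Cfsg.Agent.Lib.SmallGroups.SelfCent.TwoDeg
import Cfsg.Agent.Lib.SmallGroups.SelfCent.Involution
import Cfsg.Agent.Lib.SmallGroups.SelfCent.Count
import Cfsg.Agent.Lib.SmallGroups.Counting
import Cfsg.Agent.OddChar.Twist

/-!
# A self-centralising subgroup of order `p` with `|N| = 2 p` and a character of degree `p - 1`

The values of that character on `p`-regular elements are `0`, `1` and `p - 1`.
-/

set_option autoImplicit false

open scoped ComplexConjugate

namespace Cfsg.Agent.CharDeep.OrderP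

open SmallGroups.SelfCent SmallGroups.SelfCent.Setup

theorem exists_sum_eq_card_mul {H : Type*} [Group H] [Fintype H] {f : H → ℂ}
    (hf : Cfsg.IsCharacter H f) : ∃ n : ℕ, ∑ h, f h = (Nat.card H : ℂ) * n := by
  classical
  obtain ⟨m, hm⟩ := CharCore.IsCharacter.exists_sum hf
  refine ⟨m triv, ?_⟩
  have h1 : Cfsg.classInner f (1 : H → ℂ) = (m triv : ℂ) := by
    show Cfsg.classInner f ((triv : Cfsg.IrrCharacter H) : H → ℂ) = _
    rw [hm, CharCore.classInner_sum_irr Finset.univ (fun ψ => (m ψ : ℂ)) triv,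
      if_pos (Finset.mem_univ _)]
  rw [CharCore.classInner_def] at h1
  simp only [Pi.one_apply, map_one, mul_one] at h1
  have hne : (Nat.card H : ℂ) ≠ 0 := Nat.cast_ne_zero.mpr Nat.card_pos.ne'
  rw [← h1, mul_inv_cancel_left₀ hne]

/-- The facts about the character of degree `p - 1`. -/
structure Facts (G : Type*) [Group G] [Fintype G] (p : ℕ) (F : G → ℤ) : Prop where
  char : Cfsg.IsCharacter G (fun g => (F g : ℂ))
  one : F 1 = (p : ℤ) - 1
  singular : ∀ g, orderOf g = p → F g = -1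
  card_singular : 2 * p * Nat.card {g : G // orderOf g = p} = (p - 1) * Nat.card G
  regular : ∀ g, orderOf g ≠ p → g ≠ 1 → F g = 0 ∨ F g = 1
  sum_zero : ∑ g, F g = 0
  card : Nat.card G = p * ((p - 1) * (p - 2))
  even : ∀ w : G, w ^ 2 = 1 → w ≠ 1 → F w = 0
  cent : ∀ w : G, w ^ 2 = 1 → w ≠ 1 → Nat.card (Subgroup.centralizer ({w} : Set G)) = p - 1

variable {G : Type*} [Group G] [Fintype G] {p : ℕ} [hp : Fact p.Prime]

set_option maxHeartbeats 1000000 in
theorem exists_facts [IsSimpleGroup G] (hG : ¬ IsMulCommutative G) (hp5 : 5 ≤ p)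
    (P : Sylow p G) (hP : Nat.card (P : Subgroup G) = p)
    (hC : Subgroup.centralizer ((P : Subgroup G) : Set G) = P)
    (hN : Nat.card (Subgroup.normalizer ((P : Subgroup G) : Set G)) = 2 * p)
    (hdeg : ∃ χ : Cfsg.IrrCharacter G,
      Setup.deg χ = p - 1 ∨ Setup.deg χ = p - 2) : ∃ F : G → ℤ, Facts G p F := by
  classical
  obtain ⟨s, hK, hzP, hcard⟩ := exists_setup_of_prime (P : Subgroup G) hP hC
  rw [hN] at hcard
  have he : Nat.card s.auto = 2 := (Nat.eq_of_mul_eq_mul_right hp.out.pos hcard).symm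
  have := Fintype.ofFinite s.Orb
  obtain ⟨D, χa, δ, hδ, hat, hane, hca, hd, hrest⟩ := s.exists_two_data hp5 he
  obtain ⟨o₀⟩ : Nonempty s.Orb := inferInstance
  have hpz : (5 : ℤ) ≤ p := by exact_mod_cast hp5
  have hp2 : p ≠ 2 := by omega
  have hsmall : ∀ n : ℤ, n ≠ 0 → -4 ≤ n → n ≤ 4 → ¬ (p : ℤ) ∣ n := fun n h0 h1 h2 h => by
    have := Int.le_of_dvd (a := (p : ℤ)) (b := |n|) (abs_pos.mpr h0) ((dvd_abs _ _).mpr h)
    have h3 : |n| ≤ 4 := abs_le.mpr ⟨h1, h2⟩
    omega
  have hsmall' : ∀ x : ℤ, (p : ℤ) ∣ x → ∀ n : ℤ, x = (p : ℤ) + n → n ≠ 0 → -4 ≤ n → n ≤ 4 →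
      False := fun x hx n hn h0 h1 h2 =>
    hsmall n h0 h1 h2 (by simpa [hn] using hx)
  -- congruences of the degrees
  have hmod : ∀ χ : Cfsg.IrrCharacter G, χ ≠ triv → χ ≠ χa → (∀ o, χ ≠ D.f o) →
      (p : ℤ) ∣ (deg χ : ℤ) := by
    intro χ h1 h2 h3
    obtain ⟨n, -, hn, hm⟩ := D.fix_congr χ
    rw [hn hK, if_neg (fun ⟨o, ho⟩ => h3 o ho), hrest χ h1 h2, neg_zero, add_zero] at hm
    simpa using hm.symm.dvd
  have hmoda : (p : ℤ) ∣ (deg χa : ℤ) - δ := by
    obtain ⟨n, -, hn, hm⟩ := D.fix_congr χa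
    rw [hn hK, if_neg (fun ⟨o, ho⟩ => hane o ho), hca, neg_neg, add_zero] at hm
    exact hm.symm.dvd
  have hmodb : (p : ℤ) ∣ (D.b : ℤ) - 2 * D.eps := by
    obtain ⟨n, -, hn, hm⟩ := D.fix_congr (D.f o₀)
    rw [hn hK, if_pos ⟨o₀, rfl⟩, D.c_f, hd, D.deg_f, he, neg_zero, zero_add] at hm
    exact_mod_cast hm.symm.dvd
  have hdeq : 1 + δ * (deg χa : ℤ) = D.eps * D.b := by
    have h := D.degree_eq
    rw [← Finset.sum_subset (Finset.subset_univ {(triv : Cfsg.IrrCharacter G), χa})
      (fun χ _ hχ => by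
        simp only [Finset.mem_insert, Finset.mem_singleton, not_or] at hχ
        rw [hrest χ hχ.1 hχ.2, mul_zero]),
      Finset.sum_pair hat.symm, D.c_triv, hca, deg_triv] at h
    push_cast at h
    linear_combination -h
  -- the degrees
  obtain ⟨hδ1, ha, heps, hb⟩ :
      δ = -1 ∧ deg χa = p - 1 ∧ D.eps = -1 ∧ D.b = p - 2 := by
    obtain ⟨χ, hχ⟩ := hdeg
    have ht : χ ≠ triv := fun h => by rw [h, deg_triv] at hχ; omega
    by_cases h1 : χ = χa
    · subst h1
      rcases hχ with h | h <;> rw [h] at hmoda hdeq <;>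
        push_cast [Nat.cast_sub (show 1 ≤ p by omega), Nat.cast_sub (show 2 ≤ p by omega)] at hmoda hdeq
      · have hδ1 : δ = -1 := hδ.resolve_left fun h' => by
          rw [h'] at hmoda
          exact hsmall' _ hmoda (-2) (by ring) (by norm_num) (by norm_num) (by norm_num)
        rw [hδ1] at hdeq
        rcases D.eps_eq with e | e <;> rw [e] at hdeq
        · omega
        · exact ⟨hδ1, h, e, by omega⟩
      · exfalso
        rcases hδ with h' | h' <;> rw [h'] at hmoda
        · exact hsmall' _ hmoda (-3) (by ring) (by norm_num) (by norm_num) (by norm_num)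
        · exact hsmall' _ hmoda (-1) (by ring) (by norm_num) (by norm_num) (by norm_num)
    · by_cases h2 : ∃ o, χ = D.f o
      · obtain ⟨o, rfl⟩ := h2
        rw [D.deg_f] at hχ
        rcases hχ with h | h <;> rw [h] at hmodb hdeq <;>
          push_cast [Nat.cast_sub (show 1 ≤ p by omega), Nat.cast_sub (show 2 ≤ p by omega)] at hmodb hdeq
        · exfalso
          rcases D.eps_eq with e | e <;> rw [e] at hmodb
          · exact hsmall' _ hmodb (-3) (by ring) (by norm_num) (by norm_num) (by norm_num)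
          · exact hsmall' _ hmodb 1 (by ring) (by norm_num) (by norm_num) (by norm_num)
        · have he1 : D.eps = -1 := D.eps_eq.resolve_left fun h' => by
            rw [h'] at hmodb
            exact hsmall' _ hmodb (-4) (by ring) (by norm_num) (by norm_num) (by norm_num)
          rw [he1] at hdeq
          rcases hδ with e | e <;> rw [e] at hdeq
          · omega
          · exact ⟨e, by omega, he1, h⟩
      · exfalso
        have h3 := hmod χ ht h1 (fun o ho => h2 ⟨o, ho⟩)
        rw [Int.natCast_dvd_natCast] at h3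
        have := Nat.le_of_dvd (by omega) h3
        omega
  subst hδ1
  have hdC : ∀ χ : Cfsg.IrrCharacter G, (χ : G → ℂ) 1 = (deg χ : ℂ) := fun χ => (deg_spec χ).2.2
  have haC : (χa : G → ℂ) 1 = (p : ℂ) - 1 := by
    rw [hdC, ha, Nat.cast_sub (by omega)]; simp
  have hbC : ∀ o, (D.f o : G → ℂ) 1 = (p : ℂ) - 2 := fun o => by
    rw [hdC, D.deg_f, hb, Nat.cast_sub (by omega)]; simp
  -- splitting of sums over the block
  have hsplit : ∀ F : Cfsg.IrrCharacter G → ℂ,
      (∀ χ, χ ≠ triv → χ ≠ χa → (∀ o, χ ≠ D.f o) → F χ = 0) →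
      ∑ χ, F χ = F triv + F χa + ∑ o, F (D.f o) := by
    intro F hF
    have hdisj : Disjoint ({(triv : Cfsg.IrrCharacter G), χa} : Finset _)
        (Finset.univ.image D.f) := by
      rw [Finset.disjoint_left]
      intro χ hχ hχ'
      obtain ⟨o, -, rfl⟩ := Finset.mem_image.mp hχ'
      simp [D.triv_ne o, (hane o).symm] at hχ
    rw [← Finset.sum_subset (Finset.subset_univ
        ({(triv : Cfsg.IrrCharacter G), χa} ∪ Finset.univ.image D.f)) (fun χ _ hχ => by
      simp only [Finset.mem_union, Finset.mem_insert, Finset.mem_singleton, Finset.mem_image,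
        Finset.mem_univ, true_and, not_or, not_exists] at hχ
      exact hF χ hχ.1.1 hχ.1.2 (fun o h => hχ.2 o h.symm)),
      Finset.sum_union hdisj, Finset.sum_pair hat.symm,
      Finset.sum_image fun a _ b _ h => D.inj h]
  -- values at the powers of `z`
  have hkset : s.kset = {1} := by ext w; simp [s.mem_kset, hK]
  have hzk : ∀ (χ : Cfsg.IrrCharacter G), (∀ o, χ ≠ D.f o) → ∀ k : ZMod p, k ≠ 0 →
      (χ : G → ℂ) (s.zp k) = -(D.c χ : ℂ) := by
    intro χ hχ k hk
    have h := s.phi_of_const χ (D.c χ) (fun o => by rw [D.vec_eq, if_neg (hχ o), add_zero]) hk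
    simpa [Setup.phi, hkset] using h
  have hzero : ∀ χ : Cfsg.IrrCharacter G, χ ≠ triv → χ ≠ χa → (∀ o, χ ≠ D.f o) →
      ∀ k : ZMod p, k ≠ 0 → (χ : G → ℂ) (s.zp k) = 0 := fun χ h1 h2 h3 k hk => by
    rw [hzk χ h3 k hk, hrest χ h1 h2]; simp
  have hza : ∀ k : ZMod p, k ≠ 0 → (χa : G → ℂ) (s.zp k) = -1 := fun k hk => by
    rw [hzk χa hane k hk, hca]; simp
  have hPs : Nat.card (Sylow p G) = Nat.card (Sylow p G) := rfl
  have hsylow : ∀ Q : Sylow p G, Nat.card (Q : Subgroup G) = p := fun Q =>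
    (Nat.card_congr (P.equiv Q).toEquiv).symm.trans hP
  have hord : ∀ g : G, orderOf g = p → ∃ k : ZMod p, k ≠ 0 ∧ IsConj g (s.zp k) := by
    intro g hg
    obtain ⟨Q, hgQ⟩ := SmallGroups.exists_mem_sylow hg
    obtain ⟨h, hh⟩ := MulAction.exists_smul_eq G Q P
    have h1 : h * g * h⁻¹ ∈ Subgroup.zpowers s.z := by
      rw [hzP, ← hh]
      exact Subgroup.smul_mem_pointwise_smul g (MulAut.conj h) _ hgQ
    obtain ⟨n, hn⟩ := ((isOfFinOrder_of_finite s.z).mem_powers_iff_mem_zpowers).mpr h1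
    refine ⟨(n : ZMod p), fun h0 => ?_, isConj_iff.mpr ⟨h, ?_⟩⟩
    · have h2 : h * g * h⁻¹ = 1 := by
        rw [← hn]
        show s.z ^ n = 1
        rw [← s.zp_natCast, h0, s.zp_zero]
      rw [conj_eq_one_iff] at h2
      rw [h2, orderOf_one] at hg
      exact hp.out.ne_one hg.symm
    · rw [s.zp_natCast]; exact hn.symm
  have hreg : ∀ g : G, orderOf g ≠ p → ∀ k : ZMod p, k ≠ 0 → ∀ w ∈ s.K,
      ¬ IsConj g (s.zp k * w) := by
    intro g hg k hk w hw hc
    rw [hK, Subgroup.mem_bot] at hw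
    rw [hw, mul_one] at hc
    obtain ⟨c, hc⟩ := isConj_iff.mp hc
    apply hg
    have h1 : orderOf (s.zp k) = p := by
      refine orderOf_eq_prime ?_ (fun h => hk ((s.zp_eq_one_iff k).mp h))
      rw [s.zp_pow, ZMod.natCast_self, mul_zero, s.zp_zero]
    rw [← h1, ← hc]
    exact (orderOf_injective (MulAut.conj c).toMonoidHom (MulEquiv.injective _) g).symm
  have hexreg : ∀ g : G, orderOf g ≠ p → ∀ o, (D.f o : G → ℂ) g = (χa : G → ℂ) g - 1 := by
    intro g hg o
    have h := D.value_eq (hreg g hg) o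
    rw [hsplit _ (fun χ h1 h2 h3 => by rw [hrest χ h1 h2]; simp), D.c_triv] at h
    simp only [hca, D.c_f, hd, heps, triv, Pi.one_apply, Int.cast_neg, Int.cast_one,
      Int.cast_zero, mul_zero, Finset.sum_const_zero, add_zero, one_mul, neg_neg, mul_one] at h
    linear_combination -h
  -- `χa` is rational
  have hint : ∀ g : G, ∃ n : ℤ, (χa : G → ℂ) g = n := by
    intro g
    obtain ⟨m, ρ, hρ, hχρ⟩ := χa.2
    refine CharClifford.exists_int_of_fixed (hχρ ▸ CharClifford.isIntegral_character ρ g)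
      (fun σ => ?_)
    let ψ : Cfsg.IrrCharacter G := ⟨fun x => σ ((χa : G → ℂ) x),
      OddChar.isIrrCharacter_map σ χa.2⟩
    have hψd : deg ψ = p - 1 := by
      have h := hdC ψ
      simp only [ψ, haC, map_sub, map_one, map_natCast] at h
      have h2 : ((deg ψ : ℕ) : ℂ) = ((p - 1 : ℕ) : ℂ) := by
        rw [Nat.cast_sub (by omega : 1 ≤ p)]; simpa [ψ] using h.symm
      exact_mod_cast h2
    have hψ : ψ = χa := by
      by_contra h1
      have h2 : ψ ≠ triv := fun h2 => by rw [h2, deg_triv] at hψd; omega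
      have h3 : ∀ o, ψ ≠ D.f o := fun o h3 => by rw [h3, D.deg_f, hb] at hψd; omega
      have h4 := hmod ψ h2 h1 h3
      rw [hψd, Int.natCast_dvd_natCast] at h4
      have := Nat.le_of_dvd (by omega) h4
      omega
    exact congrFun (congrArg Subtype.val hψ) g
  choose F hF using hint
  have hF1 : F 1 = (p : ℤ) - 1 := by
    have h := hF 1
    rw [haC] at h
    exact_mod_cast h.symm
  have hFsing : ∀ g, orderOf g = p → F g = -1 := fun g hg => by
    obtain ⟨k, hk, hc⟩ := hord g hg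
    obtain ⟨c, hc⟩ := isConj_iff.mp hc
    have h := hza k hk
    rw [← hc, CharCore.irr_isClassFunction χa g c, hF] at h
    exact_mod_cast h
  -- exceptional values at `z`
  have hzne : ¬ IsConj s.z 1 := fun h => by
    have h1 := isConj_one_left.mp h
    exact hp.out.one_lt.ne' (by rw [← s.orderOf_z, h1, orderOf_one])
  have hexz : ∑ o, conj ((D.f o : G → ℂ) s.z) = 1 := by
    have h := CharDeep.sum_irr_mul_conj (1 : G) s.z
    rw [BlocksCore.classInd_apply_of_not_isConj (fun h => hzne h.symm), mul_zero] at h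
    have h' := (mul_eq_zero.mp h).resolve_left (Nat.cast_ne_zero.mpr
      (Nat.card_ne_zero.mpr ⟨⟨⟨1, IsConj.refl 1⟩⟩, inferInstance⟩))
    have hz1 : s.z = s.zp 1 := s.zp_one.symm
    rw [hsplit _ (fun χ h1 h2 h3 => by
        rw [hz1, hzero χ h1 h2 h3 1 one_ne_zero, map_zero, mul_zero]),
      Finset.sum_congr rfl (g := fun o => ((p : ℂ) - 2) * conj ((D.f o : G → ℂ) s.z))
        (fun o _ => by rw [hbC]), ← Finset.mul_sum, haC, hz1, hza 1 one_ne_zero] at h'
    simp only [triv, Pi.one_apply, map_one, mul_one, map_neg] at h'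
    have hp20 : (p : ℂ) - 2 ≠ 0 := by
      rw [sub_ne_zero]; exact_mod_cast hp2
    apply mul_left_cancel₀ hp20
    rw [hz1]
    linear_combination h'
  have hexz2 : ∑ o, (D.f o : G → ℂ) s.z ^ 2 = (p : ℂ) - 2 := by
    obtain ⟨c, hc⟩ : IsConj s.z s.z⁻¹ := by
      have h0 : ((-1 : (ZMod p)ˣ) : (ZMod p)ˣ) ∈ s.auto := by
        obtain ⟨x, hxo⟩ := exists_prime_orderOf_dvd_card' (G := s.auto) 2 (by rw [he])
        have hx2 : ((x : (ZMod p)ˣ) : ZMod p) ^ 2 = 1 := by
          have h := pow_orderOf_eq_one x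
          rw [hxo] at h
          simpa using congrArg (fun u : s.auto => ((u : (ZMod p)ˣ) : ZMod p)) h
        rcases sq_eq_one_iff.mp hx2 with h | h
        · exfalso
          rw [show x = 1 from Subtype.ext (Units.ext h), orderOf_one] at hxo
          omega
        · rw [show (-1 : (ZMod p)ˣ) = x from Units.ext (by rw [h]; simp)]
          exact x.2
      have h1 := (s.mem_auto_iff _).mp h0
      rwa [Units.val_neg, Units.val_one, SmallGroups.SelfCent.Setup.zp_neg, s.zp_one] at h1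
    have hreal : ∀ o, conj ((D.f o : G → ℂ) s.z) = (D.f o : G → ℂ) s.z := fun o => by
      rw [← CharCore.IsCharacter.apply_inv (CharCore.irr_isCharacter _)]
      have hc' : ((c : G)) * s.z * (↑c⁻¹ : G) = s.z⁻¹ := by
        rw [hc.eq, mul_assoc, ← Units.val_mul, mul_inv_cancel, Units.val_one, mul_one]
      rw [← hc', Units.val_inv_eq_inv_val]
      exact CharCore.irr_isClassFunction (D.f o) _ _
    have h := CharCore.sum_apply_mul_conj s.z s.z
    have hz1 : s.z = s.zp 1 := s.zp_one.symm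
    rw [if_pos (IsConj.refl _), s.card_cent, show Nat.card s.K = 1 by rw [hK]; exact Subgroup.card_bot,
      mul_one, hsplit _ (fun χ h1 h2 h3 => by
        rw [hz1, hzero χ h1 h2 h3 1 one_ne_zero, zero_mul]),
      Finset.sum_congr rfl (g := fun o => (D.f o : G → ℂ) s.z ^ 2)
        (fun o _ => by rw [hreal, sq]), hz1, hza 1 one_ne_zero] at h
    simp only [triv, Pi.one_apply, map_one, mul_one, map_neg] at h
    rw [hz1]
    linear_combination h
  have hnn : ∀ g, orderOf g ≠ p → 0 ≤ F g := by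
    intro g hg
    have h := card_pairs_mul_card s.z g
    have hz1 : s.z = s.zp 1 := s.zp_one.symm
    have hsum : ∑ χ : Cfsg.IrrCharacter G,
        (χ : G → ℂ) s.z ^ 2 / (χ : G → ℂ) 1 * conj ((χ : G → ℂ) g) =
          (p : ℂ) / ((p : ℂ) - 1) * F g := by
      rw [hsplit _ (fun χ h1 h2 h3 => by
        rw [hz1, hzero χ h1 h2 h3 1 one_ne_zero]; simp)]
      rw [Finset.sum_congr rfl (g := fun o => (D.f o : G → ℂ) s.z ^ 2 *
          ((((F g : ℤ) : ℂ) - 1) / ((p : ℂ) - 2)))
        (fun o _ => by rw [hexreg g hg, hF, hbC, map_sub, map_one, map_intCast]; ring),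
        ← Finset.sum_mul, hexz2, hF g, hz1, hza 1 one_ne_zero, haC]
      simp only [triv, Pi.one_apply, map_one, mul_one, map_intCast]
      have hp10 : (p : ℂ) - 1 ≠ 0 := by
        rw [sub_ne_zero]; exact_mod_cast hp.out.ne_one
      have hp20 : (p : ℂ) - 2 ≠ 0 := by rw [sub_ne_zero]; exact_mod_cast hp2
      field_simp
      ring
    rw [hsum] at h
    have h' := congrArg Complex.re h
    have e1 : ∀ (a : ℕ) (b : ℤ), ((a : ℂ) ^ 2 * ((p : ℂ) / ((p : ℂ) - 1) * (b : ℂ))).re =
        (a : ℝ) ^ 2 * ((p : ℝ) / ((p : ℝ) - 1) * (b : ℝ)) := fun a b => by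
      rw [show ((a : ℂ) ^ 2 * ((p : ℂ) / ((p : ℂ) - 1) * (b : ℂ))) =
        (((a : ℝ) ^ 2 * ((p : ℝ) / ((p : ℝ) - 1) * (b : ℝ)) : ℝ) : ℂ) by push_cast; rfl,
        Complex.ofReal_re]
    rw [e1] at h'
    simp only [Complex.mul_re, Complex.natCast_re, Complex.natCast_im, mul_zero, sub_zero] at h'
    by_contra hneg
    have hb' : (F g : ℝ) ≤ -1 := by exact_mod_cast (show F g ≤ -1 by omega)
    have hidx : (0 : ℝ) < ((Subgroup.centralizer ({s.z} : Set G)).index : ℝ) ^ 2 := by
      have := Nat.pos_of_ne_zero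
        (Subgroup.index_ne_zero_of_finite (H := Subgroup.centralizer ({s.z} : Set G)))
      positivity
    have hq : (0 : ℝ) < (p : ℝ) / ((p : ℝ) - 1) := by
      have : (5 : ℝ) ≤ p := by exact_mod_cast hp5
      exact div_pos (by linarith) (by linarith)
    have hl : ((Subgroup.centralizer ({s.z} : Set G)).index : ℝ) ^ 2 *
        ((p : ℝ) / ((p : ℝ) - 1) * (F g : ℝ)) < 0 :=
      mul_neg_of_pos_of_neg hidx (mul_neg_of_pos_of_neg hq (by linarith))
    rw [← h'] at hl
    exact absurd hl (not_lt.mpr (by positivity))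
  -- moments
  let S : Finset G := Finset.univ.filter fun g => orderOf g = p
  have hcardS : 2 * p * S.card = (p - 1) * Nat.card G := by
    have h1 := SmallGroups.card_orderOf_eq hsylow
    rw [Nat.card_eq_fintype_card, Fintype.card_subtype] at h1
    rw [show S.card = Nat.card (Sylow p G) * (p - 1) from h1]
    have h2 := Sylow.card_eq_index_normalizer P
    have h3 := (Subgroup.normalizer ((P : Subgroup G) : Set G)).card_mul_index
    rw [hN, show (Subgroup.normalizer ((P : Subgroup G) : Set G)).index =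
      Nat.card (Sylow p G) from h2.symm] at h3
    rw [← h3]; ring
  have hchar : Cfsg.IsCharacter G (fun g => (F g : ℂ)) := by
    rw [← funext hF]; exact CharCore.irr_isCharacter χa
  have hn1 : ∑ g, (F g : ℤ) = 0 := by
    have h := CharCore.classInner_irr_of_ne hat
    rw [CharCore.classInner_def] at h
    simp only [triv, Pi.one_apply, map_one, mul_one] at h
    have h2 := (mul_eq_zero.mp h).resolve_left (inv_ne_zero (Nat.cast_ne_zero.mpr Nat.card_pos.ne'))
    simp only [hF] at h2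
    exact_mod_cast h2
  have hn2 : ∑ g, F g * F g = (Nat.card G : ℤ) := by
    have h := CharCore.classInner_irr_self χa
    rw [CharCore.classInner_def, inv_mul_eq_iff_eq_mul₀ (Nat.cast_ne_zero.mpr Nat.card_pos.ne'),
      mul_one] at h
    simp only [hF, map_intCast] at h
    exact_mod_cast h
  obtain ⟨m, hn3⟩ : ∃ m : ℕ, ∑ g, F g * F g * F g = (Nat.card G : ℤ) * m := by
    obtain ⟨m, hm⟩ := exists_sum_eq_card_mul
      (CharCore.isCharacter_mul (CharCore.isCharacter_mul hchar hchar) hchar)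
    refine ⟨m, ?_⟩
    simp only [Pi.mul_apply] at hm
    exact_mod_cast hm
  have hle : ∀ g, F g ≤ (p : ℤ) - 1 := fun g => by
    obtain ⟨n, ρ, hρ, hχρ⟩ := χa.2
    have h := CharCore.norm_character_le ρ g
    have h1 := haC
    rw [← hχρ, ρ.char_one] at h1
    rw [hχρ, hF g, Complex.norm_intCast] at h
    have h2 : ((Module.finrank ℂ (Fin n → ℂ) : ℕ) : ℂ) = ((p - 1 : ℕ) : ℂ) := by
      rw [h1, Nat.cast_sub (by omega : 1 ≤ p)]; simp
    rw [Nat.cast_inj.mp h2, Nat.cast_sub (by omega : 1 ≤ p)] at h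
    have h3 : (F g : ℝ) ≤ ((p : ℤ) - 1 : ℤ) := by
      push_cast; exact (le_abs_self _).trans (by simpa using h)
    exact_mod_cast h3
  let T : G → ℤ := fun g => ((p : ℤ) - 1 - F g) * F g * (F g - 1)
  have hTall : ∑ g, T g = ((p : ℤ) - m) * Nat.card G := by
    have : ∀ g, T g = -(F g * F g * F g) + (p : ℤ) * (F g * F g) - ((p : ℤ) - 1) * F g := fun g => by
      simp only [T]; ring
    simp only [this, Finset.sum_sub_distrib, Finset.sum_add_distrib, Finset.sum_neg_distrib,
      ← Finset.mul_sum, hn1, hn2, hn3]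
    ring
  have hTS : ∀ g ∈ S, T g = 2 * (p : ℤ) := fun g hg => by
    simp only [T, hFsing g (Finset.mem_filter.mp hg).2]; ring
  have hnS : ∀ g, g ∉ S → orderOf g ≠ p := fun g hg h =>
    hg (Finset.mem_filter.mpr ⟨Finset.mem_univ _, h⟩)
  have hT0 : ∀ g ∈ Finset.univ \ S, 0 ≤ T g := fun g hg => by
    have h0 := hnn g (hnS g (Finset.mem_sdiff.mp hg).2)
    rcases (show F g = 0 ∨ 1 ≤ F g by omega) with h | h
    · simp [T, h]
    · exact mul_nonneg (mul_nonneg (by linarith [hle g]) h0) (by linarith)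
  have hcS : 2 * (p : ℤ) * S.card = ((p : ℤ) - 1) * Nat.card G := by
    have h : ((2 * p * S.card : ℕ) : ℤ) = (((p - 1) * Nat.card G : ℕ) : ℤ) := by rw [hcardS]
    push_cast [Nat.cast_sub (show 1 ≤ p by omega)] at h
    exact h
  have hsplitT := Finset.sum_sdiff (f := T) (Finset.subset_univ S)
  rw [Finset.sum_congr rfl hTS, Finset.sum_const, nsmul_eq_mul, hTall] at hsplitT
  have hGpos : (0 : ℤ) < Nat.card G := by exact_mod_cast Nat.card_pos
  have hm1 : m ≠ 0 := by
    intro h0
    rw [h0, Nat.cast_zero, mul_zero] at hn3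
    -- `∑ (F + 1) F (F - 1) = m |G|`
    have h1 : ∑ g, (F g + 1) * F g * (F g - 1) = 0 := by
      have : ∀ g, (F g + 1) * F g * (F g - 1) = F g * F g * F g - F g := fun g => by ring
      simp only [this, Finset.sum_sub_distrib, hn1, hn3, sub_zero]
    have h2 : ∀ g, 0 ≤ (F g + 1) * F g * (F g - 1) := fun g => by
      by_cases hg : orderOf g = p
      · simp [hFsing g hg]
      · have h0 := hnn g hg
        rcases (show F g = 0 ∨ 1 ≤ F g by omega) with h | h
        · simp [h]
        · exact mul_nonneg (mul_nonneg (by linarith) h0) (by linarith)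
    have h3 := (Finset.sum_eq_zero_iff_of_nonneg fun g _ => h2 g).mp h1 1 (Finset.mem_univ _)
    rw [hF1] at h3
    rcases mul_eq_zero.mp h3 with h | h
    · rcases mul_eq_zero.mp h with h | h <;> omega
    · omega
  have hz : ∑ g ∈ Finset.univ \ S, T g = 0 := by
    have h1 := Finset.sum_nonneg hT0
    have h2 : ((p : ℤ) - m) * Nat.card G ≤ ((p : ℤ) - 1) * Nat.card G :=
      mul_le_mul_of_nonneg_right (by omega) hGpos.le
    have h3 : (S.card : ℤ) * (2 * (p : ℤ)) = ((p : ℤ) - 1) * Nat.card G := by rw [← hcS]; ring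
    linarith
  have hregular : ∀ g, orderOf g ≠ p → g ≠ 1 → F g = 0 ∨ F g = 1 := by
    intro g hg hg1
    have h := (Finset.sum_eq_zero_iff_of_nonneg hT0).mp hz g
      (Finset.mem_sdiff.mpr ⟨Finset.mem_univ _, fun h => hg (Finset.mem_filter.mp h).2⟩)
    simp only [T, mul_eq_zero, sub_eq_zero] at h
    rcases h with (h | h) | h
    · exfalso
      refine value_ne_deg hat hg1 ?_
      rw [hF, ha, ← h]
      push_cast [Nat.cast_sub (show 1 ≤ p by omega)]
      rfl
    · exact Or.inl h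
    · exact Or.inr h
  have hQ : ∀ Q : Subgroup G, ¬ p ∣ Nat.card Q →
      (Nat.card Q : ℤ) ∣ ((p : ℤ) - 1) * ((p : ℤ) - 2) := fun Q hQ => by
    obtain ⟨i, hi⟩ := exists_sum_eq_card_mul (H := Q)
      (CharCore.isCharacter_restrict hchar Q)
    obtain ⟨j, hj⟩ := exists_sum_eq_card_mul (H := Q)
      (CharCore.isCharacter_restrict (CharCore.isCharacter_mul hchar hchar) Q)
    simp only [Pi.mul_apply] at hj
    have hi' : ∑ q : Q, F q = (Nat.card Q : ℤ) * i := by exact_mod_cast hi
    have hj' : ∑ q : Q, F q * F q = (Nat.card Q : ℤ) * j := by exact_mod_cast hj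
    refine ⟨(j : ℤ) - i, ?_⟩
    rw [mul_sub ((Nat.card Q : ℤ)), ← hi', ← hj', ← Finset.sum_sub_distrib,
      Finset.sum_eq_single (1 : Q) (fun q _ hq => ?_) (fun h => absurd (Finset.mem_univ _) h)]
    · rw [OneMemClass.coe_one, hF1]; ring
    · have hqp : orderOf (q : G) ≠ p := fun h => hQ (by
        rw [← h, Subgroup.orderOf_coe]; exact orderOf_dvd_natCard q)
      rcases hregular q hqp (fun h => hq (Subtype.ext h)) with h | h <;> rw [h] <;> ring
  have hGdvd : Nat.card G ∣ p * ((p - 1) * (p - 2)) := by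
    rw [Nat.dvd_iff_prime_pow_dvd_dvd]
    intro r k hr hrk
    by_cases hrp : r = p
    · subst hrp
      rcases Nat.lt_or_ge k 2 with hk | hk
      · exact (pow_dvd_pow _ (by omega : k ≤ 1)).trans (by rw [pow_one]; exact dvd_mul_right _ _)
      · exfalso
        have h1 : r ^ 2 ∣ Nat.card G := (pow_dvd_pow _ hk).trans hrk
        obtain ⟨Q, hQ'⟩ := Sylow.exists_subgroup_card_pow_prime r h1
        obtain ⟨R, hR⟩ := (IsPGroup.of_card hQ').exists_le_sylow
        have := Subgroup.card_dvd_of_le hR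
        rw [hQ', hsylow R] at this
        have := Nat.le_of_dvd hr.pos this
        nlinarith [hr.two_le]
    · haveI := Fact.mk hr
      obtain ⟨Q, hQ'⟩ := Sylow.exists_subgroup_card_pow_prime r hrk
      have h1 := hQ Q (fun h => hrp ((Nat.prime_dvd_prime_iff_eq hp.out hr).mp
        (hp.out.dvd_of_dvd_pow (hQ' ▸ h))).symm)
      rw [hQ'] at h1
      have h2 : r ^ k ∣ (p - 1) * (p - 2) := by
        apply Int.natCast_dvd_natCast.mp
        push_cast [Nat.cast_sub (show 1 ≤ p by omega), Nat.cast_sub (show 2 ≤ p by omega)]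
        exact_mod_cast h1
      exact h2.trans (dvd_mul_left _ _)
  have hlow : 1 + (p - 1) ^ 2 + (p - 1) / 2 * (p - 2) ^ 2 ≤ Nat.card G := by
    have hsq := D.sum_sq_le {(triv : Cfsg.IrrCharacter G), χa} (fun o => by
      simp [D.triv_ne o, (hane o).symm])
    rw [Finset.sum_pair hat.symm, deg_triv, one_pow, ha, hb] at hsq
    have hcardO : Nat.card s.Orb = (p - 1) / 2 := by
      have := s.card_orb_mul
      rw [he] at this
      omega
    rw [hcardO] at hsq
    exact hsq
  have hcardG : Nat.card G = p * ((p - 1) * (p - 2)) := by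
    obtain ⟨k, hk⟩ := hGdvd
    have hk1 : k = 1 := by
      rcases Nat.lt_or_ge k 2 with h2 | h2
      · interval_cases k
        · rw [mul_zero, mul_eq_zero, mul_eq_zero] at hk; omega
        · rfl
      · exfalso
        obtain ⟨q, hq⟩ : Odd p := hp.out.odd_of_ne_two hp2
        have h3 : (p - 1) / 2 = q := by omega
        rw [h3] at hlow
        have e1 : p - 1 = 2 * q := by omega
        have e2 : p - 2 = 2 * q - 1 := by omega
        rw [e1, e2] at hlow hk
        obtain ⟨u, hu⟩ : ∃ u, 2 * q = u + 1 := ⟨2 * q - 1, by omega⟩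
        have : 2 * Nat.card G ≤ Nat.card G * k := by
          rw [mul_comm]; exact Nat.mul_le_mul_left _ h2
        rw [← hk, hu, Nat.add_sub_cancel] at this
        rw [hu, Nat.add_sub_cancel] at hlow
        nlinarith
    rw [hk, hk1, mul_one]
  have heven : ∀ w : G, w ^ 2 = 1 → w ≠ 1 → F w = 0 := by
    intro w hw hw1
    have hwp : orderOf w ≠ p := fun h => hp2 (by
      rw [← h, orderOf_eq_prime hw hw1])
    refine (hregular w hwp hw1).resolve_right fun h => ?_
    obtain ⟨n, hn, -, -, h4⟩ := exists_int_value_four hG χa hw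
    rw [hF, h] at hn
    have hn1 : n = 1 := by exact_mod_cast hn.symm
    rw [hn1, ha] at h4
    have hodd : p % 2 = 1 := Nat.odd_iff.mp (hp.out.odd_of_ne_two hp2)
    omega
  have hcent : ∀ w : G, w ^ 2 = 1 → w ≠ 1 →
      Nat.card (Subgroup.centralizer ({w} : Set G)) = p - 1 := by
    intro w hw hw1
    have h := card_pairs_mul_card w s.z
    have hz1 : s.z = s.zp 1 := s.zp_one.symm
    have hwp : orderOf w ≠ p := fun h => hp2 (by rw [← h, orderOf_eq_prime hw hw1])
    have hp10 : (p : ℂ) - 1 ≠ 0 := by rw [sub_ne_zero]; exact_mod_cast hp.out.ne_one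
    have hp20 : (p : ℂ) - 2 ≠ 0 := by rw [sub_ne_zero]; exact_mod_cast hp2
    have hsum : ∑ χ : Cfsg.IrrCharacter G,
        (χ : G → ℂ) w ^ 2 / (χ : G → ℂ) 1 * conj ((χ : G → ℂ) s.z) =
          ((p : ℂ) - 1) / ((p : ℂ) - 2) := by
      rw [hsplit _ (fun χ h1 h2 h3 => by
        rw [hz1, hzero χ h1 h2 h3 1 one_ne_zero]; simp),
        Finset.sum_congr rfl (g := fun o => (1 / ((p : ℂ) - 2)) * conj ((D.f o : G → ℂ) s.z))
        (fun o _ => by rw [hexreg w hwp, hF, heven w hw hw1, hbC]; push_cast; ring),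
        ← Finset.mul_sum, hexz, hF w, heven w hw hw1, haC]
      simp only [triv, Pi.one_apply, map_one, mul_one, Int.cast_zero]
      field_simp
      ring
    rw [hsum] at h
    set N := Nat.card {q : G × G // IsConj w q.1 ∧ IsConj w q.2 ∧ q.1 * q.2 = s.z} with hNdef
    set C := Nat.card (Subgroup.centralizer ({w} : Set G)) with hCdef
    have hidx : (C : ℂ) * ((Subgroup.centralizer ({w} : Set G)).index : ℂ) = (Nat.card G : ℂ) := by
      exact_mod_cast (Subgroup.centralizer ({w} : Set G)).card_mul_index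
    have hGne : (Nat.card G : ℂ) ≠ 0 := Nat.cast_ne_zero.mpr Nat.card_pos.ne'
    have key : (N : ℂ) * (C : ℂ) ^ 2 * ((p : ℂ) - 2) = (Nat.card G : ℂ) * ((p : ℂ) - 1) := by
      apply mul_left_cancel₀ hGne
      field_simp at h
      linear_combination (C : ℂ) ^ 2 * h +
        ((p : ℂ) - 1) * ((C : ℂ) * ((Subgroup.centralizer ({w} : Set G)).index : ℂ) +
          (Nat.card G : ℂ)) * hidx
    have hC : ¬ p ∣ C := fun hd => by
      obtain ⟨⟨y, hy⟩, hyo⟩ := exists_prime_orderOf_dvd_card' p hd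
      rw [Subgroup.orderOf_mk] at hyo
      obtain ⟨k, hk, hc⟩ := hord y hyo
      obtain ⟨c, hc⟩ := isConj_iff.mp hc
      have h1 : c * w * c⁻¹ ∈ Subgroup.centralizer ({s.zp k} : Set G) := by
        rw [Subgroup.mem_centralizer_singleton_iff, ← hc]
        have h2 := Subgroup.mem_centralizer_singleton_iff.mp hy
        calc c * w * c⁻¹ * (c * y * c⁻¹) = c * (w * y) * c⁻¹ := by group
          _ = c * (y * w) * c⁻¹ := by rw [h2]
          _ = _ := by group
      rw [s.centralizer_zp hk, ← Subgroup.centralizer_closure, ← Subgroup.zpowers_eq_closure,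
        hzP, hC] at h1
      have h2 := Subgroup.orderOf_dvd_natCard _ h1
      rw [hP, orderOf_eq_prime (by rw [conj_pow, hw]; group) (by simpa using hw1)] at h2
      exact hp2 ((Nat.prime_dvd_prime_iff_eq Nat.prime_two hp.out).mp h2).symm
    have keyN : (N : ℤ) * (C : ℤ) ^ 2 * ((p : ℤ) - 2) = (Nat.card G : ℤ) * ((p : ℤ) - 1) := by
      exact_mod_cast key
    have hpG : (p : ℤ) ∣ (Nat.card G : ℤ) := by
      exact_mod_cast (s.orderOf_z ▸ orderOf_dvd_natCard s.z : p ∣ Nat.card G)
    have hNp : N ≤ p := by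
      have hinv : ∀ q : {q : G × G // IsConj w q.1 ∧ IsConj w q.2 ∧ q.1 * q.2 = s.z},
          q.1.1 ^ 2 = 1 ∧ q.1.1 * s.z * q.1.1⁻¹ = s.z⁻¹ := fun q => by
        obtain ⟨⟨a, b⟩, ha, hb, hab⟩ := q
        obtain ⟨c, rfl⟩ := isConj_iff.mp ha
        obtain ⟨d, rfl⟩ := isConj_iff.mp hb
        have hu : (c * w * c⁻¹) ^ 2 = 1 := by rw [conj_pow, hw]; group
        have hv : (d * w * d⁻¹) ^ 2 = 1 := by rw [conj_pow, hw]; group
        rw [sq] at hu hv
        refine ⟨by rw [sq]; exact hu, ?_⟩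
        show c * w * c⁻¹ * s.z * (c * w * c⁻¹)⁻¹ = s.z⁻¹
        rw [← hab, mul_inv_rev (c * w * c⁻¹), inv_eq_of_mul_eq_one_right hv, ← mul_assoc, hu,
          one_mul]
      rcases Nat.eq_zero_or_pos N with h0 | h0
      · omega
      obtain ⟨q₀⟩ := (Nat.card_pos_iff.mp h0).1
      have hPc : Nat.card (Subgroup.centralizer ({s.z} : Set G)) = p := by
        rw [s.card_cent, hK, Subgroup.card_bot, mul_one]
      rw [← hPc]
      refine Nat.card_le_card_of_injective (fun q => ⟨q₀.1.1⁻¹ * q.1.1, ?_⟩) fun q r hqr => ?_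
      · rw [Subgroup.mem_centralizer_singleton_iff]
        have h1 := (hinv q).2
        have h2 := (hinv q₀).2
        calc q₀.1.1⁻¹ * q.1.1 * s.z = q₀.1.1⁻¹ * (q.1.1 * s.z * q.1.1⁻¹) * q.1.1 := by group
          _ = q₀.1.1⁻¹ * (q₀.1.1 * s.z * q₀.1.1⁻¹) * q.1.1 := by rw [h1, h2]
          _ = _ := by group
      · have h1 : q.1.1 = r.1.1 := mul_left_cancel (congrArg Subtype.val hqr)
        have h2 : q.1.2 = r.1.2 := mul_left_cancel (a := q.1.1)
          (q.2.2.2.trans (by rw [h1]; exact r.2.2.2.symm))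
        exact Subtype.ext (Prod.ext h1 h2)
    have hNdvd : (p : ℤ) ∣ N := by
      have hpr : Prime (p : ℤ) := Nat.prime_iff_prime_int.mp hp.out
      have h1 : (p : ℤ) ∣ (N : ℤ) * (C : ℤ) ^ 2 * ((p : ℤ) - 2) := keyN ▸ hpG.mul_right _
      rcases hpr.dvd_mul.mp h1 with h2 | h2
      · rcases hpr.dvd_mul.mp h2 with h3 | h3
        · exact h3
        · exact absurd (Int.natCast_dvd_natCast.mp (hpr.dvd_of_dvd_pow h3)) hC
      · exact absurd (by simpa using (dvd_refl (p : ℤ)).sub h2) (hsmall 2 two_ne_zero (by norm_num) (by norm_num))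
    have hN0 : N ≠ 0 := fun h0 => by
      rw [h0, Nat.cast_zero, zero_mul, zero_mul] at keyN
      rcases mul_eq_zero.mp keyN.symm with h | h <;> omega
    have hNeq : N = p := le_antisymm hNp
      (Nat.le_of_dvd (Nat.pos_of_ne_zero hN0) (Int.natCast_dvd_natCast.mp hNdvd))
    -- the order of `G` from the class equation
    have hstruct : (C : ℤ) ^ 2 * ((p : ℤ) * ((p : ℤ) - 2)) = (Nat.card G : ℤ) * ((p : ℤ) - 1) := by
      rw [← keyN, hNeq]; ring
    rw [hcardG] at hstruct
    push_cast [Nat.cast_sub (show 1 ≤ p by omega), Nat.cast_sub (show 2 ≤ p by omega)] at hstruct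
    have hC2 : (C : ℤ) ^ 2 = ((p : ℤ) - 1) ^ 2 := by
      apply mul_right_cancel₀ (b := (p : ℤ) * ((p : ℤ) - 2)) (mul_ne_zero (by omega) (by omega))
      linear_combination hstruct
    have hC3 : (C : ℤ) = (p : ℤ) - 1 :=
      (pow_left_inj₀ (by positivity) (by omega) two_ne_zero).mp hC2
    omega
  exact ⟨F, hchar, hF1, hFsing, by
    rw [Nat.card_eq_fintype_card (α := {g : G // orderOf g = p}), Fintype.card_subtype]
    exact hcardS, hregular, hn1, hcardG, heven, hcent⟩

end Cfsg.Agent.CharDeep.OrderP
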