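import Cfsg.Agent.Lib.SmallGroups.SelfCent.TwoDeg

/-!
# A character of degree `2 p` vanishing on elements of order `p`
-/

set_option autoImplicit false

open scoped ComplexConjugate

namespace Cfsg.Agent.CharDeep.OrderP

open SmallGroups.SelfCent SmallGroups.SelfCent.Setup

variable {G : Type*} [Group G] [Fintype G] {p : ℕ} [hp : Fact p.Prime]

set_option maxHeartbeats 800000 in
/-- If the trivial character occurs once in such a character `f` and `f` is not `1 + χ`, then there
is an irreducible character of degree `p - 1` or `p - 2`. -/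
theorem exists_small_degree [IsSimpleGroup G] (hG : ¬ IsMulCommutative G) (hp5 : 5 ≤ p)
    (P : Subgroup G) (hP : Nat.card P = p) (hC : Subgroup.centralizer (P : Set G) = P)
    (hN : Nat.card (Subgroup.normalizer (P : Set G)) = 2 * p) (f : G → ℂ)
    (hf : Cfsg.IsCharacter G f) (hf1 : f 1 = ((2 * p : ℕ) : ℂ))
    (hfs : ∀ g, orderOf g = p → f g = 0) (hsum : ∑ g, f g = (Nat.card G : ℂ))
    (hsq : ∑ g, f g * conj (f g) ≠ 2 * (Nat.card G : ℂ)) :
    ∃ χ : Cfsg.IrrCharacter G,
      (χ : G → ℂ) 1 = ((p - 1 : ℕ) : ℂ) ∨ (χ : G → ℂ) 1 = ((p - 2 : ℕ) : ℂ) := by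
  classical
  obtain ⟨s, hK, hzP, hcard⟩ := exists_setup_of_prime P hP hC
  rw [hN] at hcard
  have he : Nat.card s.auto = 2 := (Nat.eq_of_mul_eq_mul_right hp.out.pos hcard).symm
  have := Fintype.ofFinite s.Orb
  obtain ⟨D, χa, δ, hδ, hat, hane, hca, hd, hrest⟩ := s.exists_two_data hp5 he
  obtain ⟨o₀⟩ : Nonempty s.Orb := inferInstance
  have hmoda : (p : ℤ) ∣ (deg χa : ℤ) - δ := by
    obtain ⟨n, -, hn, hm⟩ := D.fix_congr χa
    rw [hn hK, if_neg (fun ⟨o, ho⟩ => hane o ho), hca, neg_neg, add_zero] at hm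
    exact hm.symm.dvd
  have hdeq : 1 + δ * (deg χa : ℤ) = D.eps * D.b := by
    have h := D.degree_eq
    rw [← Finset.sum_subset (Finset.subset_univ {(triv : Cfsg.IrrCharacter G), χa})
      (fun χ _ hχ => by
        simp only [Finset.mem_insert, Finset.mem_singleton, not_or] at hχ
        rw [hrest χ hχ.1 hχ.2, mul_zero]),
      Finset.sum_pair hat.symm, D.c_triv, hca, deg_triv] at h
    push_cast at h
    linear_combination -h
  have ha2 : 2 ≤ deg χa := by
    have h1 := (deg_spec χa).1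
    have h2 : deg χa ≠ 1 := fun h => hat ((deg_eq_one_iff hG χa).mp h)
    omega
  obtain ⟨m, hm⟩ := CharCore.IsCharacter.exists_sum hf
  have hinner : ∀ χ : Cfsg.IrrCharacter G, ∑ g, f g * conj ((χ : G → ℂ) g) =
      (Nat.card G : ℂ) * (m χ : ℂ) := fun χ => by
    have h : Cfsg.classInner f (χ : G → ℂ) = (m χ : ℂ) := by
      rw [hm, CharCore.classInner_sum_irr Finset.univ (fun ψ => (m ψ : ℂ)) χ,
        if_pos (Finset.mem_univ _)]
    rw [CharCore.classInner_def] at h
    rw [← h, mul_inv_cancel_left₀ (Nat.cast_ne_zero.mpr Nat.card_pos.ne')]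
  have hGne : (Nat.card G : ℂ) ≠ 0 := Nat.cast_ne_zero.mpr Nat.card_pos.ne'
  have hmt : m triv = 1 := by
    have h := hinner triv
    simp only [triv, Pi.one_apply, map_one, mul_one, hsum] at h
    exact_mod_cast (mul_eq_left₀ hGne).mp h.symm
  have hreg : ∀ g : G, orderOf g ≠ p → ∀ k : ZMod p, k ≠ 0 → ∀ w ∈ s.K,
      ¬ IsConj g (s.zp k * w) := by
    intro g hg k hk w hw hc
    rw [hK, Subgroup.mem_bot] at hw
    rw [hw, mul_one] at hc
    obtain ⟨c, hc⟩ := isConj_iff.mp hc
    apply hg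
    have h1 : orderOf (s.zp k) = p := by
      refine orderOf_eq_prime ?_ (fun h => hk ((s.zp_eq_one_iff k).mp h))
      rw [s.zp_pow, ZMod.natCast_self, mul_zero, s.zp_zero]
    rw [← h1, ← hc]
    exact (orderOf_injective (MulAut.conj c).toMonoidHom (MulEquiv.injective _) g).symm
  have hexreg : ∀ g : G, orderOf g ≠ p → ∀ o,
      (D.eps : ℂ) * (D.f o : G → ℂ) g = 1 + (δ : ℂ) * (χa : G → ℂ) g := by
    intro g hg o
    have h := D.value_eq (hreg g hg) o
    rw [← Finset.sum_subset (Finset.subset_univ {(triv : Cfsg.IrrCharacter G), χa})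
      (fun χ _ hχ => by
        simp only [Finset.mem_insert, Finset.mem_singleton, not_or] at hχ
        rw [hrest χ hχ.1 hχ.2]; simp),
      Finset.sum_pair hat.symm, D.c_triv] at h
    simp only [hca, triv, Pi.one_apply, Int.cast_neg, Int.cast_one] at h
    linear_combination h
  have hrel : ∀ o, D.eps * (m (D.f o) : ℤ) = 1 + δ * (m χa : ℤ) := fun o => by
    have h : ∑ g, f g * conj ((D.eps : ℂ) * (D.f o : G → ℂ) g) =
        ∑ g, f g * conj (1 + (δ : ℂ) * (χa : G → ℂ) g) := Finset.sum_congr rfl fun g _ => by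
      by_cases hg : orderOf g = p
      · rw [hfs g hg, zero_mul, zero_mul]
      · rw [hexreg g hg o]
    simp only [map_mul, map_add, map_one, map_intCast, mul_add, mul_one,
      Finset.sum_add_distrib, mul_left_comm _ ((D.eps : ℤ) : ℂ), mul_left_comm _ ((δ : ℤ) : ℂ),
      ← Finset.mul_sum, hinner, hsum] at h
    have h' : ((D.eps : ℂ) * (m (D.f o) : ℂ)) = 1 + (δ : ℂ) * (m χa : ℂ) := by
      apply mul_left_cancel₀ hGne
      linear_combination h
    exact_mod_cast h'
  -- the degree
  have hdeg : ∑ χ : Cfsg.IrrCharacter G, (m χ : ℤ) * (deg χ : ℤ) = 2 * (p : ℤ) := by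
    have h := congrFun hm 1
    rw [hf1, Finset.sum_apply] at h
    simp only [Pi.smul_apply, smul_eq_mul, (deg_spec _).2.2] at h
    exact_mod_cast h.symm
  have hdisj : Disjoint ({(triv : Cfsg.IrrCharacter G), χa} : Finset _)
      (Finset.univ.image D.f) := by
    rw [Finset.disjoint_left]
    intro χ hχ hχ'
    obtain ⟨o, -, rfl⟩ := Finset.mem_image.mp hχ'
    simp [D.triv_ne o, (hane o).symm] at hχ
  have hle : 1 + (m χa : ℤ) * (deg χa : ℤ) + ∑ o, (m (D.f o) : ℤ) * (D.b : ℤ) ≤ 2 * (p : ℤ) := by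
    rw [← hdeg]
    refine le_trans (le_of_eq ?_) (Finset.sum_le_univ_sum_of_nonneg
      (s := ({(triv : Cfsg.IrrCharacter G), χa} : Finset _) ∪ Finset.univ.image D.f)
      (fun χ => by positivity))
    rw [Finset.sum_union hdisj, Finset.sum_pair hat.symm,
      Finset.sum_image fun a _ b _ h => D.inj h, hmt, deg_triv]
    simp [D.deg_f]
  have hcardO : Nat.card s.Orb = (p - 1) / 2 := by
    have := s.card_orb_mul
    rw [he] at this
    omega
  obtain ⟨q, hq⟩ : Odd p := hp.out.odd_of_ne_two (by omega)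
  have hq2 : (p - 1) / 2 = q := by omega
  obtain ⟨c₀, hc₀⟩ := hmoda
  have hpz : (5 : ℤ) ≤ p := by exact_mod_cast hp5
  have haz : (2 : ℤ) ≤ deg χa := by exact_mod_cast ha2
  have hc1 : 1 ≤ c₀ ∨ (c₀ = 0 ∧ δ = deg χa) := by
    rcases le_or_gt 1 c₀ with h | h
    · exact Or.inl h
    rcases lt_or_eq_of_le (show c₀ ≤ 0 by omega) with h' | h'
    · exfalso
      have : (p : ℤ) * c₀ ≤ (p : ℤ) * (-1) := mul_le_mul_of_nonneg_left (by omega) (by omega)
      rcases hδ with e | e <;> rw [e] at hc₀ <;> omega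
    · rw [h', mul_zero] at hc₀
      exact Or.inr ⟨h', by omega⟩
  have hc1' : 1 ≤ c₀ := hc1.resolve_right fun h => by rcases hδ with e | e <;> omega
  have hpa : (p : ℤ) - 1 ≤ deg χa := by
    have : (p : ℤ) * 1 ≤ (p : ℤ) * c₀ := mul_le_mul_of_nonneg_left hc1' (by omega)
    rcases hδ with e | e <;> rw [e] at hc₀ <;> omega
  have hb : (p : ℤ) - 2 ≤ D.b := by
    rcases D.eps_eq with e | e <;> rcases hδ with e' | e' <;> rw [e, e'] at hdeq <;> omega
  by_cases h0 : m (D.f o₀) = 0
  · -- the exceptional characters do not occur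
    have hk := hrel o₀
    rw [h0, Nat.cast_zero, mul_zero] at hk
    have hδ1 : δ = -1 := hδ.resolve_left fun e => by rw [e] at hk; omega
    have hk1 : m χa = 1 := by rw [hδ1] at hk; omega
    rw [hk1, Nat.cast_one, one_mul] at hle
    have hnn : (0 : ℤ) ≤ ∑ o, (m (D.f o) : ℤ) * (D.b : ℤ) := by positivity
    have hc2 : c₀ ≤ 2 := by
      by_contra h
      have : (p : ℤ) * 3 ≤ (p : ℤ) * c₀ := mul_le_mul_of_nonneg_left (by omega) (by omega)
      rw [hδ1] at hc₀
      omega
    rw [hδ1] at hc₀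
    rcases (show c₀ = 1 ∨ c₀ = 2 by omega) with h | h <;> rw [h] at hc₀
    · exact ⟨χa, Or.inl (by rw [(deg_spec χa).2.2]; norm_cast; omega)⟩
    · exfalso
      apply hsq
      have hother : ∀ χ, χ ≠ triv → χ ≠ χa → m χ = 0 := fun χ h1 h2 => by
        have h3 := Finset.sum_le_univ_sum_of_nonneg
          (s := ({(triv : Cfsg.IrrCharacter G), χa, χ} : Finset _))
          (f := fun χ => (m χ : ℤ) * (deg χ : ℤ)) (fun χ => by positivity)
        rw [hdeg, Finset.sum_insert (by simp [hat.symm, h1.symm]), Finset.sum_pair h2.symm,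
          hmt, hk1, deg_triv] at h3
        have h4 := (deg_spec χ).1
        by_contra h5
        have : (1 : ℤ) ≤ (m χ : ℤ) * (deg χ : ℤ) := by
          exact_mod_cast Nat.mul_pos (Nat.pos_of_ne_zero h5) h4
        omega
      have hfeq : ∀ g, f g = 1 + (χa : G → ℂ) g := fun g => by
        rw [congrFun hm g, Finset.sum_apply,
          ← Finset.sum_subset (Finset.subset_univ {(triv : Cfsg.IrrCharacter G), χa})
            (fun χ _ hχ => by
              simp only [Finset.mem_insert, Finset.mem_singleton, not_or] at hχ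
              simp [hother χ hχ.1 hχ.2]),
          Finset.sum_pair hat.symm, hmt, hk1]
        simp [triv]
      have h1 := hinner triv
      have h2 := hinner χa
      rw [hmt] at h1
      rw [hk1] at h2
      simp only [triv, Pi.one_apply, map_one, mul_one, Nat.cast_one] at h1 h2
      calc ∑ g, f g * conj (f g) = ∑ g, (f g + f g * conj ((χa : G → ℂ) g)) :=
            Finset.sum_congr rfl fun g _ => by
              conv_lhs => arg 2; rw [hfeq g]
              rw [map_add, map_one]
              ring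
        _ = 2 * (Nat.card G : ℂ) := by rw [Finset.sum_add_distrib, h1, h2]; ring
  · -- all exceptional characters occur
    have hall : ∀ o, 1 ≤ (m (D.f o) : ℤ) := fun o => by
      have h1 := (hrel o).trans (hrel o₀).symm
      have h2 : (m (D.f o) : ℤ) = m (D.f o₀) := by
        rcases D.eps_eq with e | e <;> rw [e] at h1 <;> omega
      rw [h2]
      exact_mod_cast Nat.pos_of_ne_zero h0
    have h1 : (q : ℤ) * ((p : ℤ) - 2) ≤ ∑ o, (m (D.f o) : ℤ) * (D.b : ℤ) := by
      refine le_trans (le_of_eq ?_) (Finset.sum_le_sum (f := fun _ => (p : ℤ) - 2)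
        fun o _ => le_trans hb (le_mul_of_one_le_left (by positivity) (hall o)))
      rw [Finset.sum_const, Finset.card_univ, ← Nat.card_eq_fintype_card, hcardO, hq2,
        nsmul_eq_mul]
    have hk0 : (0 : ℤ) ≤ (m χa : ℤ) * (deg χa : ℤ) := by positivity
    have hq' : (p : ℤ) = 2 * q + 1 := by exact_mod_cast hq
    have hq5 : q = 2 := by
      have : (q : ℤ) * (2 * q - 1) ≤ 4 * q + 1 := by rw [hq'] at h1 hle; linarith
      have h3 : q ≤ 2 := by
        by_contra h3
        have : (3 : ℤ) * (2 * q - 1) ≤ (q : ℤ) * (2 * q - 1) :=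
          mul_le_mul_of_nonneg_right (by omega) (by omega)
        omega
      omega
    refine ⟨D.f o₀, Or.inr ?_⟩
    rw [(deg_spec _).2.2, D.deg_f]
    norm_cast
    obtain ⟨n, -, hn, hmo⟩ := D.fix_congr (D.f o₀)
    rw [hn hK, if_pos ⟨o₀, rfl⟩, D.c_f, hd, D.deg_f, he, neg_zero, zero_add] at hmo
    have hp5' : p = 5 := by omega
    have h2 : ((p : ℤ) - 1) / 2 * (D.b : ℤ) ≤ ∑ o, (m (D.f o) : ℤ) * (D.b : ℤ) := by
      refine le_trans (le_of_eq ?_) (Finset.sum_le_sum (f := fun _ => (D.b : ℤ))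
        fun o _ => le_mul_of_one_le_left (by positivity) (hall o))
      rw [Finset.sum_const, Finset.card_univ, ← Nat.card_eq_fintype_card, hcardO, hq2,
        nsmul_eq_mul, hq5, show ((p : ℤ) - 1) / 2 = 2 by omega]
      norm_num
    subst hp5'
    have h3 := hmo.symm.dvd
    rcases D.eps_eq with e | e <;> rw [e] at h3 <;> push_cast at h3 h2 hle hb ⊢ <;> omega

end Cfsg.Agent.CharDeep.OrderP
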